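import Groth.Agent.L29.Blow.KillTor
import Groth.Agent.L29.TorExt.Theta
import Groth.Agent.L29.DCoh.ExtDivisor
import Groth.Agent.L17.ClosedPush
import Groth.Agent.L03.Euler.Twist
import Groth.Agent.L12.KNil.Exactness
import Groth.Agent.L19.IdealInvertible
import Groth.Agent.L12.FinCov.Frame
import Groth.Agent.Lead.KoszulTwist

/-!
# The sequence of an effective Cartier divisor acting by zero on the homology of a flat complex
-/

set_option autoImplicit false
set_option backward.isDefEq.respectTransparency false
set_option backward.isDefEq.respectTransparency.types false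
set_option linter.style.haveILetI false

universe u

open CategoryTheory CategoryTheory.Limits AlgebraicGeometry TopologicalSpace Opposite

noncomputable section

namespace Groth.L29.Blow

open Groth.L00 Groth.L00.Tensor Groth.L29.TorExt

variable {X : Scheme.{u}}

local notation "up" => ComplexShape.up ℤ

/-- A map of right factors. -/
def tensorNat {A B : X.Modules} (g : A ⟶ B) : tensorRightF A ⟶ tensorRightF B where
  app N := tensorMap (𝟙 N) g
  naturality {N N'} a := by
    show tensorMap a (𝟙 A) ≫ tensorMap (𝟙 N') g = tensorMap (𝟙 N) g ≫ tensorMap a (𝟙 B)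
    rw [← tensorMap_comp, ← tensorMap_comp, Category.comp_id, Category.id_comp, Category.id_comp,
      Category.comp_id]

/-- `⊗ O` is the identity. -/
def unitNat : tensorRightF (Coh.structureModule X) ≅ 𝟭 X.Modules :=
  NatIso.ofComponents (fun N => tensorUnitRight N) fun g => Groth.Lead.KoszulTwist.tensorUnitRight_natural g

/-- A map of right factors vanishes if it kills stalkwise. -/
theorem tensorMap_ι_eq_zero (N : X.Modules) (I : X.IdealSheafData)
    (h : ∀ (x : X) (q : (Stk.F X x).obj (ClSub.idealMod I)) (v : (Stk.F X x).obj N), jv₀ I x q • v = 0) :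
    tensorMap (𝟙 N) (ClSub.idealModι I) = 0 := by
  refine Groth.L21.Mod.hom_ext_stalk fun x => ?_
  haveI : (Stk.F X x).Additive := DerSch.additive_stalkFunctor x
  have hz : (Stk.F X x).map (tensorMap (𝟙 N) (ClSub.idealModι I)) = 0 := by
    rw [← cancel_epi (Stk.τ x N (ClSub.idealMod I)).hom, ← Stk.τ_natural, comp_zero]
    refine ModuleCat.hom_ext (TensorProduct.ext' fun v q => ?_)
    show Stk.τfun x N (Coh.structureModule X)
      ((((Stk.F X x).map (𝟙 N)).hom v) ⊗ₜ (((Stk.F X x).map (ClSub.idealModι I)).hom q)) = 0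
    have e1 : ((Stk.F X x).map (ClSub.idealModι I)).hom q = jv₀ I x q • oneEquiv x 1 := by
      rw [← map_smul, smul_eq_mul, mul_one]
      exact ((oneEquiv x).apply_symm_apply _).symm
    rw [e1, TensorProduct.tmul_smul, TensorProduct.smul_tmul', CategoryTheory.Functor.map_id]
    rw [show (jv₀ I x q • ((𝟙 ((Stk.F X x).obj N) : _ ⟶ _).hom v)) = 0 from h x q v, TensorProduct.zero_tmul, map_zero]
  refine ConcreteCategory.hom_ext _ _ fun v => ?_
  show stl (tensorMap (𝟙 N) (ClSub.idealModι I)) x v = stl (0 : CohB1.tensorMod N (ClSub.idealMod I) ⟶ _) x v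
  rw [stl_zero, stl, hz]
  rfl

variable {Z : Scheme.{u}} (j : Z ⟶ X) [IsClosedImmersion j]

/-- `⊗ (O / I) = j_* j^*`. -/
theorem nonempty_quotNat :
    Nonempty (tensorRightF (ClSub.quotMod j.ker) ≅ Scheme.Modules.pullback j ⋙ Scheme.Modules.pushforward j) := by
  obtain ⟨u⟩ := Groth.L29.ExtDivisor.nonempty_push_iso_quotMod j
  let e : tensorRightF (ClSub.quotMod j.ker) ≅ tensorRightF ((Scheme.Modules.pushforward j).obj (Coh.structureModule Z)) :=
    NatIso.ofComponents (fun N => Groth.L00.Tensor.tensorIso (Iso.refl N) u.symm) fun g => (tensorNat u.inv).naturality g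
  exact ⟨e ≪≫ Groth.L17.ClosedPush.thetaIso j (Coh.structureModule Z) ≪≫
    Functor.isoWhiskerLeft _ (Functor.isoWhiskerRight unitNat _ ≪≫ Functor.leftUnitor _)⟩

theorem shortExact_tensorNat {N : X.Modules} (hN : FlatMod.IsFlat N) {S : ShortComplex X.Modules} (hS : S.ShortExact) :
    ∃ w, (ShortComplex.mk ((tensorNat S.f).app N) ((tensorNat S.g).app N) w).ShortExact := by
  have hf : ((DCoh.tensorBi (X := X)).obj N).map S.f = tensorMap (𝟙 N) S.f := Groth.L03.Euler.tensorBi_obj_map N S.f
  have hg : ((DCoh.tensorBi (X := X)).obj N).map S.g = tensorMap (𝟙 N) S.g := Groth.L03.Euler.tensorBi_obj_map N S.g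
  have h := Groth.L16.FrameIso.shortExact_tensor_left hN S hS
  have w : tensorMap (𝟙 N) S.f ≫ tensorMap (𝟙 N) S.g = 0 := by
    rw [← hf, ← hg, ← Functor.map_comp, S.zero, Functor.map_zero]
  refine ⟨w, ShortComplex.shortExact_of_iso (ShortComplex.isoMk (Iso.refl _) (Iso.refl _) (Iso.refl _) ?_ ?_) h⟩
  · simp [hf]
  · simp [hg]

theorem exists_seq (K : CochainComplex X.Modules ℤ) (hK : ∀ n, FlatMod.IsFlat (K.X n))
    (hJ : BlowUp.IsEffCartierIdeal j.ker)
    (hkill : ∀ (n : ℤ) (x : X) (q : (Stk.F X x).obj (ClSub.idealMod j.ker)) (v : (Stk.F X x).obj (K.homology n)),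
      jv₀ j.ker x q • v = 0) (n : ℤ) :
    ∃ S : ShortComplex X.Modules, S.ShortExact ∧ Nonempty (S.X₁ ≅ K.homology n) ∧
      Nonempty (S.X₂ ≅ (Scheme.Modules.pushforward j).obj
        ((((Scheme.Modules.pullback j).mapHomologicalComplex up).obj K).homology n)) ∧
      Nonempty (S.X₃ ≅ CohB1.tensorMod (K.homology (n + 1)) (ClSub.idealMod j.ker)) := by
  let J := ClSub.idealMod j.ker
  let O := Coh.structureModule X
  let Q := ClSub.quotMod j.ker
  obtain ⟨eQ⟩ := nonempty_quotNat j
  have hJi : PicF.IsInvertible J := (Groth.Agent.L19.IdealInvertible.isEffCartier_iff _).2 hJ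
  have hJf : FlatMod.IsFinLocFree J := fun x => by
    obtain ⟨U, hU, e⟩ := Groth.L12.FinCov.isFinLocFreeOfRank_one_of_isInvertible hJi x
    exact ⟨U, _, hU, e⟩
  obtain ⟨_, _, _⟩ := Groth.L12.KNil.exact_tensorRight hJf
  haveI := Groth.L17.PushQCoh.additive_push j
  haveI := Groth.L17.ClosedPush.preservesColimits_push j
  haveI : PreservesColimitsOfSize.{0, 0} (Scheme.Modules.pushforward j) :=
    preservesColimitsOfSize_shrink.{0, u, 0, u} _
  haveI : PreservesFiniteColimits (Scheme.Modules.pushforward j) :=
    PreservesColimitsOfSize.preservesFiniteColimits _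
  haveI : PreservesLimitsOfSize.{0, 0} (Scheme.Modules.pushforward j) :=
    (Scheme.Modules.pullbackPushforwardAdjunction j).rightAdjoint_preservesLimits
  haveI : PreservesFiniteLimits (Scheme.Modules.pushforward j) :=
    PreservesLimitsOfSize.preservesFiniteLimits _
  haveI : (Scheme.Modules.pullback j).Additive :=
    (Scheme.Modules.pullbackPushforwardAdjunction j).left_adjoint_additive
  haveI : PreservesFiniteLimits (tensorRightF O) := preservesFiniteLimits_of_natIso unitNat.symm
  haveI : PreservesFiniteColimits (tensorRightF O) :=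
    ⟨fun I _ _ => preservesColimitsOfShape_of_natIso unitNat.symm⟩
  haveI : (tensorRightF O).Additive := Functor.additive_of_iso unitNat.symm
  haveI : (tensorRightF Q).Additive := Functor.additive_of_iso eQ.symm
  let ι := ClSub.idealModι j.ker
  let π := ClSub.toSubscheme j.ker
  let a := (NatTrans.mapHomologicalComplex (tensorNat ι) up).app K
  let b := (NatTrans.mapHomologicalComplex (tensorNat π) up).app K
  have hd := fun p => shortExact_tensorNat (hK p) (Groth.L29.ExtDivisor.shortExact_idealSeq j.ker)
  have w : a ≫ b = 0 := by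
    refine HomologicalComplex.hom_ext _ _ fun p => ?_
    show (tensorNat ι).app (K.X p) ≫ (tensorNat π).app (K.X p) = 0
    exact (hd p).choose
  let C : ShortComplex (CochainComplex X.Modules ℤ) := ShortComplex.mk a b w
  have hC : C.ShortExact := HomologicalComplex.shortExact_of_degreewise_shortExact _ fun p => (hd p).choose_spec
  have hz : ∀ p, HomologicalComplex.homologyMap a p = 0 := fun p => by
    show ShortComplex.homologyMap ((K.sc p).mapNatTrans (tensorNat ι)) = 0
    rw [ShortComplex.homologyMap_mapNatTrans,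
      show (tensorNat ι).app (K.sc p).homology = 0 from tensorMap_ι_eq_zero _ _ (hkill p), zero_comp, comp_zero]
  haveI : Mono (HomologicalComplex.homologyMap C.g n) := (hC.homology_exact₂ n).mono_g (hz n)
  haveI : Epi (hC.δ n (n + 1) rfl) := (hC.homology_exact₁ n (n + 1) rfl).epi_f (hz (n + 1))
  refine ⟨ShortComplex.mk (HomologicalComplex.homologyMap C.g n) (hC.δ n (n + 1) rfl)
    (hC.comp_δ n (n + 1) rfl), { exact := hC.homology_exact₃ n (n + 1) rfl }, ?_, ?_, ?_⟩
  · exact ⟨(HomologicalComplex.homologyFunctor _ _ n).mapIso ((NatIso.mapHomologicalComplex unitNat up).app K ≪≫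
      (Functor.mapHomologicalComplexIdIso _ _).app K)⟩
  · let e : (((Scheme.Modules.pullback j ⋙ Scheme.Modules.pushforward j).mapHomologicalComplex up).obj K) ≅
        ((Scheme.Modules.pushforward j).mapHomologicalComplex up).obj
          (((Scheme.Modules.pullback j).mapHomologicalComplex up).obj K) :=
      HomologicalComplex.Hom.isoOfComponents (fun _ => Iso.refl _) (by intros; simp)
    exact ⟨(HomologicalComplex.homologyFunctor _ _ n).mapIso ((NatIso.mapHomologicalComplex eQ up).app K ≪≫ e) ≪≫
      ((((Scheme.Modules.pullback j).mapHomologicalComplex up).obj K).sc n).mapHomologyIso (Scheme.Modules.pushforward j)⟩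
  · exact ⟨(K.sc (n + 1)).mapHomologyIso (tensorRightF J)⟩

end Groth.L29.Blow
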