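import Groth.Agent.L02.Flat
import Groth.Agent.L17.BC.Efface
import Groth.Prelude.Def_FlatMod2

/-!
# Pull back of bounded above flat complexes with flat cohomology
-/

set_option autoImplicit false
set_option backward.isDefEq.respectTransparency false
set_option backward.isDefEq.respectTransparency.types false
set_option linter.style.haveILetI false

universe u

open CategoryTheory CategoryTheory.Limits AlgebraicGeometry

noncomputable section

namespace Groth.L29.Blow

variable {X Y : Scheme.{u}}

open Groth.L00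

theorem isFlat_of_shortExact {S : ShortComplex Y.Modules} (hS : S.ShortExact) (h2 : FlatMod.IsFlat S.X₂)
    (h3 : FlatMod.IsFlat S.X₃) : FlatMod.IsFlat S.X₁ := fun y => by
  haveI := hS.mono_f
  haveI := hS.epi_g
  have h := hS.map_of_exact (Stk.F Y y)
  haveI : Module.Flat (Y.presheaf.stalk y) ((Stk.F Y y).obj S.X₂) := h2 y
  haveI : Module.Flat (Y.presheaf.stalk y) ((Stk.F Y y).obj S.X₃) := h3 y
  exact Groth.L02.flat_of_universallyInjective ((Stk.F Y y).map S.f).hom
    (Groth.L02.universallyInjective_of_flat_coker _ ((Stk.F Y y).map S.g).hom h.moduleCat_injective_f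
      ((ShortComplex.ShortExact.moduleCat_exact_iff_function_exact _).1 h.exact) h.moduleCat_surjective_g)

theorem shortExact_pullback {S : ShortComplex Y.Modules} (hS : S.ShortExact) (h3 : FlatMod.IsFlat S.X₃)
    (g : X ⟶ Y) : (S.map (Scheme.Modules.pullback g)).ShortExact := by
  haveI := (Scheme.Modules.pullbackPushforwardAdjunction g).isLeftAdjoint
  haveI := hS.epi_g
  refine { exact := hS.exact.map_of_epi_of_preservesCokernel _ inferInstance inferInstance
           mono_f := ?_
           epi_g := inferInstanceAs (Epi ((Scheme.Modules.pullback g).map S.g)) }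
  refine Groth.L17.BC.Efface.mono_of_stk _ fun x => ?_
  haveI := hS.mono_f
  have h := hS.map_of_exact (Stk.F Y (g x))
  haveI : Module.Flat (Y.presheaf.stalk (g x)) ((Stk.F Y (g x)).obj S.X₃) := h3 (g x)
  have hu := Groth.L02.universallyInjective_of_flat_coker ((Stk.F Y (g x)).map S.f).hom
    ((Stk.F Y (g x)).map S.g).hom h.moduleCat_injective_f
    ((ShortComplex.ShortExact.moduleCat_exact_iff_function_exact _).1 h.exact) h.moduleCat_surjective_g
  have hm : Mono ((ModuleCat.extendScalars (PullStalk.φ g x)).map ((Stk.F Y (g x)).map S.f)) := by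
    letI := (PullStalk.φ g x).toAlgebra
    rw [ModuleCat.mono_iff_injective]
    exact (LinearMap.lTensor_inj_iff_rTensor_inj _ _).2 (hu (X.presheaf.stalk x))
  exact ((MorphismProperty.monomorphisms _).arrow_mk_iso_iff
    (Arrow.isoMk ((PullStalk.stalkIso g x).app S.X₁) ((PullStalk.stalkIso g x).app S.X₂)
      ((PullStalk.stalkIso g x).hom.naturality S.f).symm)).2 hm

variable (K : CochainComplex Y.Modules ℤ)

/-- The image of `K^{n}` in the cycles of degree `n + 1`. -/
abbrev bd (n : ℤ) : Y.Modules := kernel (K.homologyπ n)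

/-- The two sequences attached to a degree. -/
theorem exists_seqs (n : ℤ) : ∃ (e : K.X n ⟶ bd K (n + 1)) (w : K.iCycles n ≫ e = 0),
    (ShortComplex.mk (K.iCycles n) e w).ShortExact ∧ e ≫ kernel.ι _ ≫ K.iCycles (n + 1) = K.d n (n + 1) := by
  let c : CokernelCofork (K.toCycles n (n + 1)) := CokernelCofork.ofπ (K.homologyπ (n + 1)) (K.toCycles_comp_homologyπ n (n + 1))
  let hc : IsColimit c := K.homologyIsCokernel n (n + 1) (by simp)
  let e : K.X n ⟶ bd K (n + 1) := kernel.lift _ (K.toCycles n (n + 1)) (K.toCycles_comp_homologyπ n (n + 1))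
  haveI : Epi e := (ShortComplex.exact_iff_epi_kernel_lift _).1
    (ShortComplex.exact_of_g_is_cokernel (ShortComplex.mk _ _ (K.toCycles_comp_homologyπ n (n + 1))) hc)
  have hd : e ≫ kernel.ι _ ≫ K.iCycles (n + 1) = K.d n (n + 1) := by simp [e]
  have w : K.iCycles n ≫ e = 0 := by
    rw [← cancel_mono (kernel.ι _ ≫ K.iCycles (n + 1)), Category.assoc, hd, zero_comp, K.iCycles_d]
  refine ⟨e, w, ?_, hd⟩
  haveI : Mono (K.iCycles n) := inferInstance
  refine { exact := ShortComplex.exact_of_f_is_kernel _ ?_, mono_f := ‹_›, epi_g := ‹_› }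
  refine KernelFork.IsLimit.ofι' _ _ fun {W} k hk => ⟨K.liftCycles k (n + 1) (by simp) ?_, K.liftCycles_i _ _ _ _⟩
  rw [← hd, reassoc_of% hk, zero_comp]

theorem shortExact_bd (n : ℤ) :
    (ShortComplex.mk (kernel.ι (K.homologyπ n)) (K.homologyπ n) (kernel.condition _)).ShortExact :=
  { exact := ShortComplex.exact_of_f_is_kernel _ (kernelIsKernel _) }

theorem flat_cycles [K.IsStrictlyLE 0] (hX : ∀ n, FlatMod.IsFlat (K.X n))
    (hH : ∀ n, FlatMod.IsFlat (K.homology n)) (n : ℤ) :
    FlatMod.IsFlat (K.cycles n) ∧ FlatMod.IsFlat (bd K n) := by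
  suffices ∀ (j : ℕ) (n : ℤ), (1 : ℤ) ≤ n + j → FlatMod.IsFlat (K.cycles n) ∧ FlatMod.IsFlat (bd K n) from
    this (1 - n).toNat n (by omega)
  intro j
  induction j with
  | zero =>
    intro n hn
    have hz : IsZero (K.cycles n) := IsZero.of_mono (K.iCycles n) (K.isZero_of_isStrictlyLE 0 n (by omega))
    have key : ∀ {N : Y.Modules}, IsZero N → FlatMod.IsFlat N := fun {N} hN y => by
      haveI := ModuleCat.subsingleton_of_isZero ((Stk.F Y y).map_isZero hN)
      exact (inferInstance : Module.Flat (Y.presheaf.stalk y) ((Stk.F Y y).obj N))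
    exact ⟨key hz, key (IsZero.of_mono (kernel.ι _) hz)⟩
  | succ j ih =>
    intro n hn
    obtain ⟨e, w, hS, -⟩ := exists_seqs K n
    have h1 := isFlat_of_shortExact hS (hX n) (ih (n + 1) (by push_cast at hn; omega)).2
    exact ⟨h1, isFlat_of_shortExact (shortExact_bd K n) h1 (hH n)⟩

/-- Pull back commutes with flat cohomology. -/
theorem nonempty_homology_pullback [K.IsStrictlyLE 0] (hX : ∀ n, FlatMod.IsFlat (K.X n))
    (hH : ∀ n, FlatMod.IsFlat (K.homology n)) (g : X ⟶ Y) (n : ℤ) :
    Nonempty ((((Scheme.Modules.pullback g).mapHomologicalComplex (ComplexShape.up ℤ)).obj K).homology n ≅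
      (Scheme.Modules.pullback g).obj (K.homology n)) := by
  let F := Scheme.Modules.pullback g
  haveI := (Scheme.Modules.pullbackPushforwardAdjunction g).isLeftAdjoint
  let h := (K.sc n).homologyData.left
  obtain ⟨e, w, hS, hd⟩ := exists_seqs K n
  have h1 := shortExact_pullback hS (flat_cycles K hX hH (n + 1)).2 g
  have h2 := shortExact_pullback (shortExact_bd K (n + 1)) (hH (n + 1)) g
  obtain ⟨e', w', hS', -⟩ := exists_seqs K (n + 1)
  have h3 := shortExact_pullback hS' (flat_cycles K hX hH (n + 1 + 1)).2 g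
  haveI : Mono (F.map (kernel.ι (K.homologyπ (n + 1)))) := h2.mono_f
  haveI : Mono (F.map (K.iCycles (n + 1))) := h3.mono_f
  have hn : (ComplexShape.up ℤ).next n = n + 1 := (ComplexShape.up ℤ).next_eq' rfl
  have hker : IsLimit (KernelFork.ofι (F.map (K.iCycles n))
      (show F.map (K.iCycles n) ≫ F.map (K.d n (n + 1)) = 0 by rw [← F.map_comp, K.iCycles_d, F.map_zero])) := by
    haveI : Mono (F.map (K.iCycles n)) := h1.mono_f
    refine KernelFork.IsLimit.ofι' _ _ fun {W} k hk => ⟨h1.fIsKernel.lift (KernelFork.ofι k ?_), ?_⟩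
    · show k ≫ F.map e = 0
      rw [← cancel_mono (F.map (kernel.ι (K.homologyπ (n + 1))) ≫ F.map (K.iCycles (n + 1))), Category.assoc,
        ← F.map_comp, ← F.map_comp, hd, zero_comp, hk]
    · exact h1.fIsKernel.fac _ WalkingParallelPair.zero
  haveI : (K.sc n).leftHomologyData.IsPreservedBy F :=
    { g := by
        show PreservesLimit (parallelPair (K.d n ((ComplexShape.up ℤ).next n)) 0) F
        rw [hn]
        exact preservesLimit_of_preserves_limit_cone (K.cyclesIsKernel n (n + 1) hn)
          ((KernelFork.isLimitMapConeEquiv (KernelFork.ofι (K.iCycles n) (K.iCycles_d n (n + 1))) F).symm hker)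
      f' := inferInstance }
  exact ⟨((K.sc n).leftHomologyData.map F).homologyIso ≪≫ F.mapIso (K.sc n).leftHomologyData.homologyIso.symm⟩

end Groth.L29.Blow
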