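import Groth.Agent.Lead.PerfPD

/-!
# Perfect objects push forward along a closed immersion with perfect structure sheaf
-/

set_option autoImplicit false
set_option linter.style.haveILetI false
set_option backward.defeqAttrib.useBackward true
set_option backward.isDefEq.respectTransparency false
set_option backward.isDefEq.respectTransparency.types false

universe u

open CategoryTheory CategoryTheory.Limits CategoryTheory.Pretriangulated AlgebraicGeometry

attribute [local instance] HasDerivedCategory.standard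

namespace Groth.L29.Blow

open Groth.L29.DC Groth.L29.DC.ClosedPC Groth.Lead.PerfPD

attribute [local instance] ClosedPC.additive ClosedPC.exactLeft ClosedPC.exactRight

variable {X Z W : Scheme.{u}}

/-- Perfect objects go to perfect objects once the structure sheaf does. -/
theorem isPerfect_pD' (i : Z ⟶ W) [IsClosedImmersion i]
    (hO : DCoh.IsPerfect (DCoh.inD W ((Scheme.Modules.pushforward i).obj (Coh.structureModule Z)))) {E : DCoh.D Z}
    (hE : DCoh.IsPerfect E) : DCoh.IsPerfect ((pD i).obj E) := by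
  refine EvalMain.isPerfect_of_local fun w => ?_
  by_cases hw : w ∈ Set.range i
  · obtain ⟨z, rfl⟩ := hw
    obtain ⟨U, hzU, hU⟩ := (isPerfect_iff_free E).1 hE z
    obtain ⟨O, hO', hOU⟩ := i.isClosedEmbedding.isInducing.isOpen_iff.1 U.isOpen
    let V : W.Opens := ⟨O, hO'⟩
    obtain rfl : i ⁻¹ᵁ V = U := TopologicalSpace.Opens.ext hOU
    obtain ⟨P, a, b, hv, hfree, ⟨eP⟩⟩ := hU _ ⟨DerivedCategory.Q.objObjPreimageIso E⟩
    obtain ⟨e⟩ := nonempty_res i V
    let G := Scheme.Modules.pushforward (i ∣_ V)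
    have hOV : DCoh.IsPerfect (DCoh.inD V.toScheme (G.obj (Coh.structureModule (i ⁻¹ᵁ V).toScheme))) :=
      isPerfect_of_iso ((((Scheme.Modules.restrictFunctor V.ι).mapDerivedCategorySingleFunctor 0).app _) ≪≫
        (DerivedCategory.singleFunctor _ 0).mapIso
          ((Groth.L17.PushQCoh.pushRestrictIso i V.ι (i ⁻¹ᵁ V).ι (i ∣_ V) (by simp) (morphismRestrict_ι i V)).app
              (Coh.structureModule Z) ≪≫
            G.mapIso (Scheme.Modules.restrictUnitIso (i ⁻¹ᵁ V).ι)))
        (Gen.isPerfect_restrictD V.ι hO)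
    refine ⟨V, hzU, isPerfect_of_iso (e.app E).symm (isPerfect_of_iso
      ((pD (i ∣_ V)).mapIso (((resD (i ⁻¹ᵁ V)).mapIso (DerivedCategory.Q.objObjPreimageIso E)).symm ≪≫
        resQIso (i ⁻¹ᵁ V) _ ≪≫ eP)).symm
      (isPerfect_of_iso (G.mapDerivedCategoryFactors.app P).symm
        (perfect_of_terms a (b + 1 - a).toNat _ (fun j hj => G.map_isZero (hv j (hj.imp id fun h => by omega)))
          fun j => ?_)))⟩
    obtain ⟨n, ⟨en⟩⟩ := hfree j
    exact isPerfect_of_iso ((G.mapDerivedCategorySingleFunctor 0).app _ ≪≫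
        (DerivedCategory.singleFunctor _ 0).mapIso (G.mapIso en.symm))
      (perfect_push_free (i ∣_ V) hOV n)
  · let V : W.Opens := ⟨(Set.range i)ᶜ, i.isClosedEmbedding.isClosed_range.isOpen_compl⟩
    obtain ⟨e⟩ := nonempty_res i V
    refine ⟨V, hw, isPerfect_of_iso (e.app E).symm (EvalMain.isPerfect_of_isZero ((pD (i ∣_ V)).map_isZero ?_))⟩
    haveI : IsEmpty (i ⁻¹ᵁ V).toScheme := ⟨fun z => z.2 ⟨(i ⁻¹ᵁ V).ι z, rfl⟩⟩
    exact Gen.isZero_of_hd fun j => (PCStalk.isZero_HD_iff_stk _ _).2 fun z => isEmptyElim z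

end Groth.L29.Blow
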