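import Groth.Agent.L29.TorExt.KClass
import Groth.Agent.L29.Blow.FlatPull
import Groth.Agent.L29.Blow.DivSeq
import Groth.Agent.L29.Blow.PushPerfect
import Groth.Agent.L19.ConormalBC
import Groth.Agent.L20.ExtPull
import Groth.Agent.L15.PnHodge.ExtSeq
import Groth.Agent.L12.RR.BaseChange
import Groth.Agent.L29.DCoh.PullTensor
import Groth.Agent.L00.TorAmp
import Mathlib.Algebra.Homology.DerivedCategory.SingleTriangle

/-!
# The class of the pull back of `i_* M` to a scheme where the centre becomes a Cartier divisor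
-/

set_option autoImplicit false
set_option backward.isDefEq.respectTransparency false
set_option backward.isDefEq.respectTransparency.types false
set_option linter.style.haveILetI false

universe u

open CategoryTheory CategoryTheory.Limits AlgebraicGeometry TopologicalSpace Opposite

attribute [local instance] HasDerivedCategory.standard

noncomputable section

namespace Groth.L29.Blow

open Groth.L00.Tensor Groth.L29.TorExt

section Generalities

variable {X : Scheme.{u}}

theorem isFinLocFree_of_rank {r : ℕ} {M : X.Modules} (h : FlatMod.IsFinLocFreeOfRank r M) :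
    FlatMod.IsFinLocFree M := fun x => by
  obtain ⟨U, hU, e⟩ := h x
  exact ⟨U, r, hU, e⟩

theorem isFinLocFree_invertible {L : X.Modules} (h : PicF.IsInvertible L) : FlatMod.IsFinLocFree L :=
  isFinLocFree_of_rank (Groth.L12.FinCov.isFinLocFreeOfRank_one_of_isInvertible h)

theorem shortExact_twist {S : ShortComplex X.Modules} (hS : S.ShortExact) {T : X.Modules}
    (hT : FlatMod.IsFinLocFree T) : (S.map (tensorRightF T)).ShortExact := by
  obtain ⟨_, _, _⟩ := Groth.L12.KNil.exact_tensorRight hT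
  exact hS.map_of_exact _

theorem isPerfect_of_shortExact {S : ShortComplex X.Modules} (hS : S.ShortExact)
    (h2 : DCoh.IsPerfect (DCoh.inD X S.X₂)) (h3 : DCoh.IsPerfect (DCoh.inD X S.X₃)) :
    DCoh.IsPerfect (DCoh.inD X S.X₁) :=
  (Groth.L29.DC.perfect_two_out_of_three hS.singleTriangle_distinguished).2.2 h2 h3

theorem cl_shortExact {S : ShortComplex X.Modules} (hS : S.ShortExact)
    (h2 : DCoh.IsPerfect (DCoh.inD X S.X₂)) (h3 : DCoh.IsPerfect (DCoh.inD X S.X₃)) :
    KZero.clTr (SGA6.perfP X) (DCoh.inD X S.X₂) =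
      KZero.clTr (SGA6.perfP X) (DCoh.inD X S.X₁) + KZero.clTr (SGA6.perfP X) (DCoh.inD X S.X₃) :=
  Groth.L29.KTr.triangle (Q := SGA6.perfP X) _ hS.singleTriangle_distinguished (isPerfect_of_shortExact hS h2 h3) h2 h3

theorem perfect_congr {A B : X.Modules} (e : A ≅ B) (h : DCoh.IsPerfect (DCoh.inD X A)) :
    DCoh.IsPerfect (DCoh.inD X B) :=
  Groth.L29.DC.isPerfect_of_iso ((DerivedCategory.singleFunctor X.Modules 0).mapIso e) h

theorem cl_congr {A B : X.Modules} (e : A ≅ B) (h : DCoh.IsPerfect (DCoh.inD X A)) :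
    KZero.clTr (SGA6.perfP X) (DCoh.inD X A) = KZero.clTr (SGA6.perfP X) (DCoh.inD X B) :=
  Groth.L29.KTr.iso (Groth.Lead.KProjPerf.perf_zero X) ((DerivedCategory.singleFunctor X.Modules 0).mapIso e) h
    (perfect_congr e h)

theorem perfect_zero {A : X.Modules} (h : IsZero A) : DCoh.IsPerfect (DCoh.inD X A) :=
  Groth.Lead.KProjPerf.perf_zero X _ ((DerivedCategory.singleFunctor X.Modules 0).map_isZero h)

theorem cl_zero {A : X.Modules} (h : IsZero A) : KZero.clTr (SGA6.perfP X) (DCoh.inD X A) = 0 :=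
  Groth.L29.KTr.isZero (Groth.Lead.KProjPerf.perf_zero X) ((DerivedCategory.singleFunctor X.Modules 0).map_isZero h)

theorem isZero_tensor_left {A : X.Modules} (h : IsZero A) (B : X.Modules) : IsZero (CohB1.tensorMod A B) :=
  (tensorRightF B).map_isZero h

variable {Z : Scheme.{u}} (j : Z ⟶ X) [IsClosedImmersion j]

theorem perfect_push (hJ : BlowUp.IsEffCartierIdeal j.ker) {E : Z.Modules} (hE : FlatMod.IsFinLocFree E) :
    DCoh.IsPerfect (DCoh.inD X ((Scheme.Modules.pushforward j).obj E)) := by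
  haveI := Groth.L29.DC.ClosedPC.additive j
  haveI := Groth.L29.DC.ClosedPC.exactLeft j
  haveI := Groth.L29.DC.ClosedPC.exactRight j
  have hO : DCoh.IsPerfect (DCoh.inD X ((Scheme.Modules.pushforward j).obj (Coh.structureModule Z))) := by
    obtain ⟨u⟩ := Groth.L29.ExtDivisor.nonempty_push_iso_quotMod j
    have hS := Groth.L29.ExtDivisor.shortExact_idealSeq j.ker
    exact perfect_congr u.symm ((Groth.L29.DC.perfect_two_out_of_three hS.singleTriangle_distinguished).1
      (Groth.Lead.PCProj.isPerfect_inD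
        (isFinLocFree_invertible ((Groth.Agent.L19.IdealInvertible.isEffCartier_iff _).2 hJ)))
      (Groth.Lead.PCProj.isPerfect_inD Groth.L03.AdjLin.isFinLocFree_structureModule))
  exact Groth.L29.DC.isPerfect_of_iso (((Scheme.Modules.pushforward j).mapDerivedCategorySingleFunctor 0).app E)
    (isPerfect_pD' j hO (Groth.Lead.PCProj.isPerfect_inD hE))

/-- Projection formula. -/
theorem nonempty_proj (E : Z.Modules) (T : X.Modules) :
    Nonempty (CohB1.tensorMod ((Scheme.Modules.pushforward j).obj E) T ≅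
      (Scheme.Modules.pushforward j).obj (CohB1.tensorMod E ((Scheme.Modules.pullback j).obj T))) := by
  haveI := Groth.L17.ClosedPush.isIso_θ j E T
  exact ⟨tensorComm _ T ≪≫ asIso (Groth.L17.ClosedPush.θ j E T) ≪≫
    (Scheme.Modules.pushforward j).mapIso (tensorComm _ _)⟩

theorem perfect_push_twist (hJ : BlowUp.IsEffCartierIdeal j.ker) {E : Z.Modules} (hE : FlatMod.IsFinLocFree E)
    {T : X.Modules} (hT : FlatMod.IsFinLocFree T) :
    DCoh.IsPerfect (DCoh.inD X (CohB1.tensorMod ((Scheme.Modules.pushforward j).obj E) T)) := by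
  obtain ⟨e⟩ := nonempty_proj j E T
  exact perfect_congr e.symm (perfect_push j hJ
    (Groth.L29.DC.isFinLocFree_tensor hE (Groth.L29.LocFree.pullback j hT)))

end Generalities

variable {X Y X' Y' : Scheme.{u}} (i : Y ⟶ X) [IsClosedImmersion i] (f : X' ⟶ X)
  (j : Y' ⟶ X') [IsClosedImmersion j] (g : Y' ⟶ Y) {M : Y.Modules}

theorem smul_push_eq_zero (U : X.affineOpens) {a : Γ(X, U.1)} (ha : i.app U.1 a = 0) (x : X) (hx : x ∈ U.1)
    (t : (Groth.L00.Stk.F X x).obj ((Scheme.Modules.pushforward i).obj M)) :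
    (X.presheaf.germ U.1 x hx a) • t = 0 := by
  by_cases hy : x ∈ Set.range i
  · obtain ⟨y, rfl⟩ := hy
    refine smul_stalk_push_eq_zero i M y _ ?_ t
    rw [RingHom.mem_ker]
    refine (Scheme.Hom.germ_stalkMap_apply i U.1 y hx a).trans ?_
    rw [ha]
    exact map_zero _
  · haveI : Subsingleton ((Groth.L00.Stk.F X x).obj ((Scheme.Modules.pushforward i).obj M)) :=
      Groth.L17.ClosedPush.subsingleton_stalk_push i M hy
    exact Subsingleton.elim _ _

/-- The exceptional ideal kills the cohomology of the pulled back resolution. -/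
theorem kill (hsq : IsPullback j g f i) (S : SheafRes ((Scheme.Modules.pushforward i).obj M)) (n : ℤ) (x : X')
    (q : (Groth.L00.Stk.F X' x).obj (ClSub.idealMod j.ker))
    (v : (Groth.L00.Stk.F X' x).obj
      ((((Scheme.Modules.pullback f).mapHomologicalComplex (ComplexShape.up ℤ)).obj S.R).homology n)) :
    jv₀ j.ker x q • v = 0 := by
  obtain ⟨O, hO, s, rfl⟩ := exists_gs _ q
  obtain ⟨U, hU, hxU, -⟩ := exists_isAffineOpen_mem_and_subset (x := f x) (U := (⊤ : X.Opens)) trivial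
  obtain ⟨W, hW, hxW, hle⟩ := exists_isAffineOpen_mem_and_subset (x := x) (U := f ⁻¹ᵁ U ⊓ O) ⟨hxU, hO⟩
  have h1 : W ≤ f ⁻¹ᵁ U := fun z hz => (hle hz).1
  have h2 : W ≤ O := fun z hz => (hle hz).2
  rw [← gs_rs _ h2 hxW s, jv₀_gs]
  have hmem : j.app W (OmegaSh.idealSect j.ker W (Groth.L18.Frame.rs _ h2 s)) = 0 :=
    Groth.L19.OmegaSh.app_idealSect (i := j) W _
  have hmem' : OmegaSh.idealSect j.ker W (Groth.L18.Frame.rs _ h2 s) ∈
      (RingHom.ker (i.app U).hom).map (f.appLE U W h1).hom := by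
    rw [← Groth.L19.ConormalBC.ker_eq_map hsq ⟨U, hU⟩ (hU.preimage i) (i.app_surjective U hU) ⟨W, hW⟩ h1]
    exact hmem
  suffices h : (RingHom.ker (i.app U).hom).map (f.appLE U W h1).hom ≤
      (Module.annihilator (X'.presheaf.stalk x) ((Groth.L00.Stk.F X' x).obj
        ((((Scheme.Modules.pullback f).mapHomologicalComplex (ComplexShape.up ℤ)).obj S.R).homology n))).comap
        (X'.presheaf.germ W x hxW).hom from Module.mem_annihilator.1 (h hmem') v
  rw [Ideal.map_le_iff_le_comap]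
  intro a ha
  refine Module.mem_annihilator.2 fun w => ?_
  have e : X'.presheaf.germ W x hxW (f.appLE U W h1 a) =
      Groth.L00.PullStalk.φ f x (X.presheaf.germ U (f x) hxU a) := by
    rw [Scheme.Hom.appLE, CommRingCat.comp_apply, TopCat.Presheaf.germ_res_apply]
    exact (Scheme.Hom.germ_stalkMap_apply f U x hxU a).symm
  exact (congrArg (· • w) e).trans
    (smul_stalk_homology_eq_zero f S x _ (smul_push_eq_zero i ⟨U, hU⟩ ha (f x) hxU) n w)

/-- The conormal map of a cartesian square is surjective. -/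
theorem epi_conormalMap (hsq : IsPullback j g f i)
    (φ : (Scheme.Modules.pullback g).obj (Omega.conormal i) ⟶ Omega.conormal j)
    (hφ : OmegaSh.IsConormalMap j i f g φ) : Epi φ := by
  refine (Groth.L21.Mod.epi_iff_stalk_surjective _).2 fun y => ?_
  refine (Groth.L19.ConormalBC.stalk_surjective_and_injective φ y
    (fun V => Function.Surjective (φ.app V)) fun O hO => ?_).1 fun V h => h
  obtain ⟨U', hU', hyU', -⟩ := exists_isAffineOpen_mem_and_subset (x := i (g y)) (U := (⊤ : X.Opens)) trivial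
  have hy : j y ∈ f ⁻¹ᵁ U' := by
    show f (j y) ∈ U'
    rw [show f (j y) = i (g y) from congrArg (fun m : Y' ⟶ X => m y) hsq.w]
    exact hyU'
  obtain ⟨U, hU, hyU, hle⟩ := exists_isAffineOpen_mem_and_subset (x := j y) (U := f ⁻¹ᵁ U') hy
  obtain ⟨V, hV, hyV, hVle⟩ := exists_isAffineOpen_mem_and_subset (x := y) (U := j ⁻¹ᵁ U ⊓ O) ⟨hyU, hO⟩
  exact ⟨V, (Groth.L19.ConormalBC.app_surjective_and_injective hsq hφ ⟨U', hU'⟩ (hU'.preimage i)
    (i.app_surjective U' hU') ⟨U, hU⟩ hle ⟨V, hV⟩ fun z hz => (hVle hz).1).1, hyV, fun z hz => (hVle hz).2⟩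

/-- The classes `j_* (g^* M ⊗ Λ^p)`. -/
abbrev Bp (M : Y.Modules) (Λ : ℕ → Y'.Modules) (p : ℕ) : X'.Modules :=
  (Scheme.Modules.pushforward j).obj (CohB1.tensorMod ((Scheme.Modules.pullback g).obj M) (Λ p))

/-- The sequences of the kernel of the conormal map, pushed forward. -/
theorem exists_Bp_seq (hJ : BlowUp.IsEffCartierIdeal j.ker) (hsq : IsPullback j g f i)
    (φ : (Scheme.Modules.pullback g).obj (Omega.conormal i) ⟶ Omega.conormal j)
    (hφ : OmegaSh.IsConormalMap j i f g φ) {c : ℕ} (hN : FlatMod.IsFinLocFreeOfRank c (Omega.conormal i))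
    (hM : FlatMod.IsFinLocFree M) (L : ℕ → Y.Modules) (hL : ∀ p, ExtPow.IsExtPow p (Omega.conormal i) (L p))
    (Λ : ℕ → Y'.Modules) (hΛ : ∀ p, ExtPow.IsExtPow p (kernel φ) (Λ p)) :
    (∀ p, FlatMod.IsFinLocFree (Λ p)) ∧
    Nonempty (Bp j g M Λ 0 ≅ (Scheme.Modules.pushforward j).obj
      ((Scheme.Modules.pullback g).obj (CohB1.tensorMod M (L 0)))) ∧
    ∀ p, ∃ T : ShortComplex X'.Modules, T.ShortExact ∧ Nonempty (T.X₁ ≅ Bp j g M Λ (p + 1)) ∧
      Nonempty (T.X₂ ≅ (Scheme.Modules.pushforward j).obj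
        ((Scheme.Modules.pullback g).obj (CohB1.tensorMod M (L (p + 1))))) ∧
      Nonempty (T.X₃ ≅ CohB1.tensorMod (Bp j g M Λ p) (ClSub.idealMod j.ker)) := by
  haveI := epi_conormalMap i f j g hsq φ hφ
  haveI := Groth.L29.DC.ClosedPC.additive j
  haveI := Groth.L29.DC.ClosedPC.exactLeft j
  haveI := Groth.L29.DC.ClosedPC.exactRight j
  have hCi := isFinLocFree_of_rank hN
  have hCj : FlatMod.IsFinLocFreeOfRank 1 (Omega.conormal j) :=
    Groth.L12.FinCov.isFinLocFreeOfRank_one_of_isInvertible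
      (Groth.L18.Ample.isInvertible_pullback j ((Groth.Agent.L19.IdealInvertible.isEffCartier_iff _).2 hJ))
  have hgC := Groth.L29.LocFree.pullback g hCi
  have hF : FlatMod.IsFinLocFree (kernel φ) :=
    Groth.L29.DC.isFinLocFree_kernel_of_epi φ hgC (isFinLocFree_of_rank hCj)
  haveI : Coh.IsQCoh (Omega.conormal i) := Groth.L19.Thick.isQCoh_conormal
  have hP : ∀ p, ExtPow.IsExtPow p ((Scheme.Modules.pullback g).obj (Omega.conormal i))
      ((Scheme.Modules.pullback g).obj (L p)) := fun p => Groth.L20.ExtPull.isExtPow_pullback g (hL p)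
  let S : ShortComplex Y'.Modules := ShortComplex.mk (kernel.ι φ) φ (kernel.condition φ)
  have hS : S.ShortExact := { exact := ShortComplex.exact_of_f_is_kernel _ (kernelIsKernel _) }
  have hΛf : ∀ p, FlatMod.IsFinLocFree (Λ p) := fun p => Groth.L12.ExtSh.isFinLocFree_of_isExtPow hF (hΛ p)
  have hMg := Groth.L29.LocFree.pullback g hM
  refine ⟨hΛf, ?_, fun p => ?_⟩
  · haveI : Coh.IsQCoh (kernel φ) := Groth.L15.PnHodge.isQCoh_of_locFree hF
    haveI := Groth.L16.AffineBC.isQCoh_pullback g (Omega.conormal i)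
    obtain ⟨a⟩ := Groth.L12.ExtSh.nonempty_iso_of_isExtPow (hΛ 0) (Groth.L15.PnHodge.isExtPow_zero' _)
    obtain ⟨b⟩ := Groth.L12.ExtSh.nonempty_iso_of_isExtPow (hP 0) (Groth.L15.PnHodge.isExtPow_zero' _)
    exact ⟨(Scheme.Modules.pushforward j).mapIso
      (Groth.L00.Tensor.tensorIso (Iso.refl _) (a ≪≫ b.symm) ≪≫ Groth.L29.DC.PullTensor.pullTensor g M (L 0))⟩
  · obtain ⟨T, hT, ⟨e1⟩, ⟨e2⟩, ⟨e3⟩⟩ := Groth.L15.PnHodge.exists_extPow_seq hS hF hgC hCj p (hΛ (p + 1)) (hΛ p) (hP (p + 1))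
    let G := (DCoh.tensorBi (X := Y')).obj ((Scheme.Modules.pullback g).obj M)
    have hT' := Groth.L16.FrameIso.shortExact_tensor_left (Groth.L29.DC.isFlat_of_isFinLocFree hMg) T hT
    obtain ⟨pr⟩ := nonempty_proj j (CohB1.tensorMod ((Scheme.Modules.pullback g).obj M) (Λ p)) (ClSub.idealMod j.ker)
    exact ⟨_, hT'.map_of_exact (Scheme.Modules.pushforward j),
      ⟨(Scheme.Modules.pushforward j).mapIso (G.mapIso e1)⟩,
      ⟨(Scheme.Modules.pushforward j).mapIso (G.mapIso e2 ≪≫ Groth.L29.DC.PullTensor.pullTensor g M (L (p + 1)))⟩,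
      ⟨(Scheme.Modules.pushforward j).mapIso (G.mapIso e3 ≪≫ (Groth.L00.Tensor.tensorAssoc _ _ _).symm) ≪≫ pr.symm⟩⟩

/-- The sequences of the pulled back resolution. -/
theorem exists_H_seq (hi : HasFrames i) (hM : FlatMod.IsFinLocFree M) (hsq : IsPullback j g f i)
    (hJ : BlowUp.IsEffCartierIdeal j.ker) (hCi : FlatMod.IsFinLocFree (Omega.conormal i))
    (S : SheafRes ((Scheme.Modules.pushforward i).obj M))
    (L : ℕ → Y.Modules) (hL : ∀ p, ExtPow.IsExtPow p (Omega.conormal i) (L p)) (p : ℕ) :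
    ∃ T : ShortComplex X'.Modules, T.ShortExact ∧
      Nonempty (T.X₁ ≅ (((Scheme.Modules.pullback f).mapHomologicalComplex (ComplexShape.up ℤ)).obj S.R).homology
        (-(p : ℤ))) ∧
      Nonempty (T.X₂ ≅ (Scheme.Modules.pushforward j).obj
        ((Scheme.Modules.pullback g).obj (CohB1.tensorMod M (L p)))) ∧
      Nonempty (T.X₃ ≅ CohB1.tensorMod
        ((((Scheme.Modules.pullback f).mapHomologicalComplex (ComplexShape.up ℤ)).obj S.R).homology (-(p : ℤ) + 1))
        (ClSub.idealMod j.ker)) := by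
  obtain ⟨T, hT, h1, ⟨e2⟩, h3⟩ := exists_seq j
    (((Scheme.Modules.pullback f).mapHomologicalComplex (ComplexShape.up ℤ)).obj S.R)
    (fun n => Groth.L00.TorAmp.isFlat_pullback f (S.flat n)) hJ (fun n x q v => kill i f j g hsq S n x q v) (-(p : ℤ))
  refine ⟨T, hT, h1, ?_, h3⟩
  let R' : CochainComplex Y.Modules ℤ :=
    ((Scheme.Modules.pullback i).mapHomologicalComplex (ComplexShape.up ℤ)).obj S.R
  haveI : R'.IsStrictlyLE 0 := (CochainComplex.isStrictlyLE_iff _ _).2 fun m hm => by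
    haveI := S.le
    exact (Scheme.Modules.pullback i).map_isZero (S.R.isZero_of_isStrictlyLE 0 m hm)
  have hH : ∀ n, FlatMod.IsFlat (R'.homology n) := fun n => by
    by_cases hn : 0 < n
    · intro y
      have hz : IsZero (R'.homology n) := HomologicalComplex.ExactAt.isZero_homology
        (ShortComplex.exact_of_isZero_X₂ _ (R'.isZero_of_isStrictlyLE 0 n hn))
      haveI := ModuleCat.subsingleton_of_isZero ((Groth.L00.Stk.F Y y).map_isZero hz)
      exact (inferInstance : Module.Flat (Y.presheaf.stalk y) ((Groth.L00.Stk.F Y y).obj (R'.homology n)))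
    · obtain ⟨m, rfl⟩ : ∃ m : ℕ, n = -(m : ℤ) := ⟨(-n).toNat, by omega⟩
      obtain ⟨e⟩ := nonempty_iso_Hs i S hi hM (hL m)
      refine fun y => Groth.L00.TorAmp.flat_of_iso ((Groth.L00.Stk.F Y y).mapIso e.symm) ?_
      exact Groth.L29.DC.isFlat_of_isFinLocFree
        (Groth.L29.DC.isFinLocFree_tensor hM (Groth.L12.ExtSh.isFinLocFree_of_isExtPow hCi (hL m))) y
  obtain ⟨e⟩ := nonempty_homology_pullback R' (fun n => Groth.L00.TorAmp.isFlat_pullback i (S.flat n)) hH g (-(p : ℤ))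
  obtain ⟨eL⟩ := nonempty_iso_Hs i S hi hM (hL p)
  let ν : Scheme.Modules.pullback f ⋙ Scheme.Modules.pullback j ≅ Scheme.Modules.pullback i ⋙ Scheme.Modules.pullback g :=
    Scheme.Modules.pullbackComp j f ≪≫ Scheme.Modules.pullbackCongr hsq.w ≪≫ (Scheme.Modules.pullbackComp g i).symm
  let ε : ((Scheme.Modules.pullback j).mapHomologicalComplex (ComplexShape.up ℤ)).obj
        (((Scheme.Modules.pullback f).mapHomologicalComplex (ComplexShape.up ℤ)).obj S.R) ≅
      ((Scheme.Modules.pullback g).mapHomologicalComplex (ComplexShape.up ℤ)).obj R' :=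
    HomologicalComplex.Hom.isoOfComponents (fun k => ν.app (S.R.X k)) fun k l _ => (ν.hom.naturality (S.R.d k l)).symm
  exact ⟨e2 ≪≫ (Scheme.Modules.pushforward j).mapIso ((HomologicalComplex.homologyFunctor _ _ _).mapIso ε ≪≫ e ≪≫
    (Scheme.Modules.pullback g).mapIso eL.symm)⟩

/-- The excess formula on classes. -/
theorem cl_pull_push (hi : HasFrames i) {c : ℕ} (hN : FlatMod.IsFinLocFreeOfRank c (Omega.conormal i))
    (hM : FlatMod.IsFinLocFree M) (hsq : IsPullback j g f i) (hJ : BlowUp.IsEffCartierIdeal j.ker)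
    (φ : (Scheme.Modules.pullback g).obj (Omega.conormal i) ⟶ Omega.conormal j)
    (hφ : OmegaSh.IsConormalMap j i f g φ)
    (Λ : ℕ → Y'.Modules) (hΛ : ∀ p, ExtPow.IsExtPow p (kernel φ) (Λ p)) [DCoh.HasLpull f]
    (hP : DCoh.IsPerfect ((DCoh.Lpull f).obj (DCoh.inD X ((Scheme.Modules.pushforward i).obj M)))) :
    KZero.clTr (SGA6.perfP X') ((DCoh.Lpull f).obj (DCoh.inD X ((Scheme.Modules.pushforward i).obj M))) =
      ∑ p ∈ Finset.range c, (-1 : ℤ) ^ p • KZero.clTr (SGA6.perfP X') (DCoh.inD X' (Bp j g M Λ p)) := by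
  obtain ⟨S⟩ := exists_sheafRes ((Scheme.Modules.pushforward i).obj M)
  haveI : Coh.IsQCoh (Omega.conormal i) := Groth.L19.Thick.isQCoh_conormal
  choose L hL using fun p : ℕ => Groth.L12.ExtSh.exists_isExtPow (X := Y) (i := p) (E := Omega.conormal i)
  obtain ⟨hΛf, ⟨eB0⟩, hBs⟩ := exists_Bp_seq i f j g hJ hsq φ hφ hN hM L hL Λ hΛ
  set H : ℤ → X'.Modules := fun n =>
    (((Scheme.Modules.pullback f).mapHomologicalComplex (ComplexShape.up ℤ)).obj S.R).homology n with hHdef
  let J := ClSub.idealMod j.ker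
  have hJf : FlatMod.IsFinLocFree J := isFinLocFree_invertible ((Groth.Agent.L19.IdealInvertible.isEffCartier_iff _).2 hJ)
  have hseq := fun p => exists_H_seq i f j g hi hM hsq hJ (isFinLocFree_of_rank hN) S L hL p
  let A : ℕ → X'.Modules := fun p =>
    (Scheme.Modules.pushforward j).obj ((Scheme.Modules.pullback g).obj (CohB1.tensorMod M (L p)))
  have hLf : ∀ p, FlatMod.IsFinLocFree (CohB1.tensorMod M (L p)) := fun p =>
    Groth.L29.DC.isFinLocFree_tensor hM (Groth.L12.ExtSh.isFinLocFree_of_isExtPow (isFinLocFree_of_rank hN) (hL p))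
  have hA : ∀ p (T : X'.Modules), FlatMod.IsFinLocFree T → DCoh.IsPerfect (DCoh.inD X' (CohB1.tensorMod (A p) T)) :=
    fun p T hT => perfect_push_twist j hJ (Groth.L29.LocFree.pullback g (hLf p)) hT
  have hB : ∀ p (T : X'.Modules), FlatMod.IsFinLocFree T →
      DCoh.IsPerfect (DCoh.inD X' (CohB1.tensorMod (Bp j g M Λ p) T)) := fun p T hT =>
    perfect_push_twist j hJ (Groth.L29.DC.isFinLocFree_tensor (Groth.L29.LocFree.pullback g hM) (hΛf p)) hT
  have hz1 : IsZero (H 1) := by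
    haveI := S.le
    exact HomologicalComplex.ExactAt.isZero_homology (ShortComplex.exact_of_isZero_X₂ _
      ((Scheme.Modules.pullback f).map_isZero (S.R.isZero_of_isStrictlyLE 0 1 (by omega))))
  -- the two recursions agree
  have main : ∀ (p : ℕ) (T : X'.Modules), FlatMod.IsFinLocFree T →
      DCoh.IsPerfect (DCoh.inD X' (CohB1.tensorMod (H (-(p : ℤ))) T)) ∧
      KZero.clTr (SGA6.perfP X') (DCoh.inD X' (CohB1.tensorMod (H (-(p : ℤ))) T)) =
        KZero.clTr (SGA6.perfP X') (DCoh.inD X' (CohB1.tensorMod (Bp j g M Λ p) T)) := by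
    intro p
    induction p with
    | zero =>
      intro T hT
      obtain ⟨S0, hS0, ⟨a1⟩, ⟨a2⟩, ⟨a3⟩⟩ := hseq 0
      have hz : IsZero S0.X₃ := IsZero.of_iso (isZero_tensor_left (by simpa using hz1) J) a3
      haveI : Epi S0.f := hS0.exact.epi_f (hz.eq_of_tgt _ _)
      haveI := hS0.mono_f
      haveI := isIso_of_mono_of_epi S0.f
      let e : CohB1.tensorMod (H (-((0 : ℕ) : ℤ))) T ≅ CohB1.tensorMod (Bp j g M Λ 0) T :=
        (tensorRightF T).mapIso (a1.symm ≪≫ asIso S0.f ≪≫ a2 ≪≫ eB0.symm)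
      exact ⟨perfect_congr e.symm (hB 0 T hT), (cl_congr e.symm (hB 0 T hT)).symm⟩
    | succ p ih =>
      intro T hT
      obtain ⟨SH, hSH, ⟨a1⟩, ⟨a2⟩, ⟨a3⟩⟩ := hseq (p + 1)
      obtain ⟨SB, hSB, ⟨b1⟩, ⟨b2⟩, ⟨b3⟩⟩ := hBs p
      have hJT := Groth.L29.DC.isFinLocFree_tensor hJf hT
      obtain ⟨ihp, ihc⟩ := ih (CohB1.tensorMod J T) hJT
      have hs1 := shortExact_twist hSH hT
      have hs2 := shortExact_twist hSB hT
      let c3 : (SH.map (tensorRightF T)).X₃ ≅ CohB1.tensorMod (H (-(p : ℤ))) (CohB1.tensorMod J T) :=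
        (tensorRightF T).mapIso (a3 ≪≫ Groth.L00.Tensor.tensorIso
          (eqToIso (show H (-((p + 1 : ℕ) : ℤ) + 1) = H (-(p : ℤ)) by congr 1; push_cast; ring)) (Iso.refl J)) ≪≫
          Groth.L00.Tensor.tensorAssoc _ _ _
      let d3 : (SB.map (tensorRightF T)).X₃ ≅ CohB1.tensorMod (Bp j g M Λ p) (CohB1.tensorMod J T) :=
        (tensorRightF T).mapIso b3 ≪≫ Groth.L00.Tensor.tensorAssoc _ _ _
      let c1 : (SH.map (tensorRightF T)).X₁ ≅ CohB1.tensorMod (H (-((p + 1 : ℕ) : ℤ))) T := (tensorRightF T).mapIso a1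
      let c2 : (SH.map (tensorRightF T)).X₂ ≅ CohB1.tensorMod (A (p + 1)) T := (tensorRightF T).mapIso a2
      let d1 : (SB.map (tensorRightF T)).X₁ ≅ CohB1.tensorMod (Bp j g M Λ (p + 1)) T := (tensorRightF T).mapIso b1
      let d2 : (SB.map (tensorRightF T)).X₂ ≅ CohB1.tensorMod (A (p + 1)) T := (tensorRightF T).mapIso b2
      have p2 := perfect_congr c2.symm (hA (p + 1) T hT)
      have q2 := perfect_congr d2.symm (hA (p + 1) T hT)
      have p3 := perfect_congr c3.symm ihp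
      have q3 := perfect_congr d3.symm (hB p _ hJT)
      have p1 := isPerfect_of_shortExact hs1 p2 p3
      have q1 := isPerfect_of_shortExact hs2 q2 q3
      refine ⟨perfect_congr c1 p1, ?_⟩
      have e1 := cl_shortExact hs1 p2 p3
      have e2 := cl_shortExact hs2 q2 q3
      rw [cl_congr c1 p1, cl_congr c2 p2, cl_congr c3 p3, ihc] at e1
      rw [cl_congr d1 q1, cl_congr d2 q2, cl_congr d3 q3] at e2
      exact add_right_cancel (e1.symm.trans e2)
  have hAz : ∀ p, c < p → IsZero (A p) := fun p hp => by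
    refine (Scheme.Modules.pushforward j).map_isZero ((Scheme.Modules.pullback g).map_isZero
      (((DCoh.tensorBi (X := Y)).obj M).map_isZero ?_))
    exact Groth.L15.PnHodge.isZero_wedge hN (hL p) hp
  have hHz : ∀ p, c < p → IsZero (H (-(p : ℤ))) := fun p hp => by
    obtain ⟨SH, hSH, ⟨a1⟩, ⟨a2⟩, -⟩ := hseq p
    haveI := hSH.mono_f
    exact IsZero.of_iso (IsZero.of_mono SH.f (IsZero.of_iso (hAz p hp) a2)) a1.symm
  -- the top terms vanish
  have hJinv : PicF.IsInvertible J := (Groth.Agent.L19.IdealInvertible.isEffCartier_iff _).2 hJ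
  have hcancel : ∀ N : X'.Modules, IsZero (CohB1.tensorMod N J) → IsZero N := fun N hN' =>
    (Groth.L00.Stk.isZero_iff _).2 fun x => by
      obtain ⟨e⟩ := Groth.L03.Euler.nonempty_stalk_tensor hJinv N x
      haveI := ModuleCat.subsingleton_of_isZero ((Groth.L00.Stk.F X' x).map_isZero hN')
      haveI : Subsingleton ((Groth.L00.Stk.F X' x).obj N) := e.injective.subsingleton
      exact ModuleCat.isZero_of_subsingleton _
  have hBc : IsZero (Bp j g M Λ c) := by
    obtain ⟨SB, hSB, -, ⟨b2⟩, ⟨b3⟩⟩ := hBs c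
    haveI := hSB.epi_g
    exact hcancel _ (IsZero.of_iso (IsZero.of_epi SB.g (IsZero.of_iso (hAz (c + 1) (by omega)) b2)) b3.symm)
  -- assemble
  obtain ⟨eS⟩ := nonempty_Lpull_iso f S
  have hHD : ∀ n, Nonempty (DCoh.HD ((DCoh.Lpull f).obj (DCoh.inD X ((Scheme.Modules.pushforward i).obj M))) n ≅ H n) :=
    fun n => ⟨(DerivedCategory.homologyFunctor X'.Modules n).mapIso eS ≪≫ HDIso _ _⟩
  have hO : FlatMod.IsFinLocFree (Coh.structureModule X') := Groth.L03.AdjLin.isFinLocFree_structureModule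
  have hperf : ∀ p : ℕ, DCoh.IsPerfect (DCoh.inD X' (H (-(p : ℤ)))) := fun p =>
    perfect_congr (tensorUnitRight _) (main p _ hO).1
  rw [cl_eq_sum (fun p => H (-(p : ℤ))) c _ ?_ ?_ hP (fun p _ => hperf p) (fun p _ => hHD _)]
  · have hcl : ∀ p : ℕ, KZero.clTr (SGA6.perfP X') (DCoh.inD X' (H (-(p : ℤ)))) =
        KZero.clTr (SGA6.perfP X') (DCoh.inD X' (Bp j g M Λ p)) := fun p => by
      rw [← cl_congr (tensorUnitRight _) (main p _ hO).1, (main p _ hO).2,
        cl_congr (tensorUnitRight _) (hB p _ hO)]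
    rw [Finset.sum_range_succ, hcl c, cl_zero hBc, smul_zero, add_zero]
    exact Finset.sum_congr rfl fun p _ => by rw [hcl p]
  · rw [DerivedCategory.isLE_iff]
    intro n hn
    obtain ⟨e⟩ := hHD n
    haveI := S.le
    refine IsZero.of_iso ?_ e
    exact HomologicalComplex.ExactAt.isZero_homology (ShortComplex.exact_of_isZero_X₂ _
      ((Scheme.Modules.pullback f).map_isZero (S.R.isZero_of_isStrictlyLE 0 n hn)))
  · rw [DerivedCategory.isGE_iff]
    intro n hn
    obtain ⟨m, rfl⟩ : ∃ m : ℕ, n = -(m : ℤ) := ⟨(-n).toNat, by omega⟩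
    obtain ⟨e⟩ := hHD (-(m : ℤ))
    exact IsZero.of_iso (hHz m (by omega)) e

end Groth.L29.Blow
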