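import Groth.Agent.L29.TorExt.SheafRes
import Groth.Agent.L29.DCoh.ModRes
import Groth.Agent.L29.DCoh.TildeAlg
import Groth.Agent.L10.DRing.SplitTrunc
import Groth.Agent.L00.KFlatPull
import Mathlib.Algebra.Homology.DerivedCategory.Linear
import Mathlib.Algebra.Homology.ShortComplex.Linear

/-!
# The annihilator of `T` annihilates the homology of every pull back of a flat resolution of `T`
-/

set_option autoImplicit false
set_option backward.isDefEq.respectTransparency false
set_option backward.isDefEq.respectTransparency.types false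
set_option linter.style.haveILetI false

universe u

open CategoryTheory CategoryTheory.Limits AlgebraicGeometry

attribute [local instance] HasDerivedCategory.standard

noncomputable section

namespace Groth.L29.Blow

section Ring

open Groth.L29.DC

variable {R S : CommRingCat.{u}} (φ : R ⟶ S)

theorem isKFlat_of_flat (K : CochainComplex (ModuleCat.{u} R) ℤ) (b : ℤ) [K.IsStrictlyLE b]
    (hK : ∀ i, Module.Flat R (K.X i)) : ModRes.IsKFlat K :=
  TildeAlg.isKFlat_of_bdd _ (fun i => by haveI := hK i; exact ModRes.isFlat_tilde _) b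
    fun i hi => (tilde.functor R).map_isZero (K.isZero_of_isStrictlyLE b i hi)

theorem extend_smul (M : ModuleCat.{u} R) (a : R) :
    (ModuleCat.extendScalars.{u, u, u} φ.hom).map (a • 𝟙 M) =
      φ.hom a • 𝟙 ((ModuleCat.extendScalars.{u, u, u} φ.hom).obj M) := by
  letI := φ.hom.toAlgebra
  refine ModuleCat.hom_ext (LinearMap.ext fun x => ?_)
  induction x using TensorProduct.induction_on with
  | zero => exact (map_zero _).trans (map_zero _).symm
  | add x y hx hy => exact (map_add _ _ _).trans ((congrArg₂ (· + ·) hx hy).trans (map_add _ _ _).symm)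
  | tmul s m =>
    show s ⊗ₜ[R] (a • m) = φ.hom a • (s ⊗ₜ[R] m)
    rw [← TensorProduct.smul_tmul]
    rfl

theorem smul_homology_eq_zero (K : CochainComplex (ModuleCat.{u} R) ℤ) [K.IsStrictlyLE 0]
    (hK : ∀ i, Module.Flat R (K.X i)) {T : ModuleCat.{u} R}
    (q : K ⟶ (HomologicalComplex.single (ModuleCat.{u} R) (ComplexShape.up ℤ) 0).obj T) [QuasiIso q]
    (a : R) (ha : a • 𝟙 T = 0) (i : ℤ) (h : ((ModRes.eCx φ).obj K).homology i) : φ.hom a • h = 0 := by
  let Q := DerivedCategory.Q (C := ModuleCat.{u} R)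
  let S0 := (HomologicalComplex.single (ModuleCat.{u} R) (ComplexShape.up ℤ) 0).obj T
  have h0 : a • 𝟙 S0 = 0 := by
    refine HomologicalComplex.from_single_hom_ext ?_
    let e := HomologicalComplex.singleObjXSelf (ComplexShape.up ℤ) 0 T
    have : a • 𝟙 (S0.X 0) = e.hom ≫ (a • 𝟙 T) ≫ e.inv := by simp [S0, e]
    rw [HomologicalComplex.smul_f_apply, HomologicalComplex.id_f, HomologicalComplex.zero_f, this, ha, zero_comp,
      comp_zero]
  haveI := (DerivedCategory.isIso_Q_map_iff_quasiIso _ q).2 inferInstance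
  haveI := (DerivedCategory.isLE_Q_obj_iff K 0).2 inferInstance
  obtain ⟨P, hP0, hPk, hPp, ⟨e⟩⟩ := Groth.L10.SplitTrunc.exists_rep (R := R) (Q.obj K) 0
  haveI := hP0
  haveI := hPk
  obtain ⟨π', hπ'⟩ := (CochainComplex.IsKProjective.Qh_map_bijective P
    ((HomotopyCategory.quotient _ _).obj K)).2 ((DerivedCategory.quotientCompQhIso _).hom.app P ≫ e.hom ≫
      (DerivedCategory.quotientCompQhIso _).inv.app K)
  obtain ⟨π, rfl⟩ := (HomotopyCategory.quotient _ _).map_surjective π'
  have hπ : Q.map π = e.hom := by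
    have := (DerivedCategory.quotientCompQhIso (ModuleCat.{u} R)).hom.naturality π
    rw [Functor.comp_map, hπ'] at this
    simpa using (cancel_epi ((DerivedCategory.quotientCompQhIso _).hom.app P)).1
      (by simpa [Q, Category.assoc] using this.symm)
  haveI : QuasiIso π := (DerivedCategory.isIso_Q_map_iff_quasiIso _ π).1 (by
    rw [show DerivedCategory.Q.map π = e.hom from hπ]; infer_instance)
  have hQ : Q.map (π ≫ (a • 𝟙 K)) = 0 := by
    have h2 : Q.map (a • 𝟙 K) ≫ Q.map q = 0 := by
      rw [← Functor.map_comp, Linear.smul_comp, Category.id_comp, ← Category.comp_id q, ← Linear.comp_smul,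
        h0, comp_zero, Functor.map_zero]
    rw [Functor.map_comp, (cancel_mono (Q.map q)).1 (h2.trans zero_comp.symm), comp_zero]
  have hh : (HomotopyCategory.quotient _ _).map (π ≫ (a • 𝟙 K)) = 0 := by
    refine (CochainComplex.IsKProjective.Qh_map_bijective P _).1 ?_
    have := (DerivedCategory.quotientCompQhIso (ModuleCat.{u} R)).hom.naturality (π ≫ (a • 𝟙 K))
    rw [Functor.comp_map] at this
    rw [Functor.map_zero, ← cancel_mono ((DerivedCategory.quotientCompQhIso _).hom.app K), zero_comp]
    exact this.trans (by rw [show DerivedCategory.Q.map (π ≫ (a • 𝟙 K)) = 0 from hQ, comp_zero])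
  let F := ModuleCat.extendScalars.{u, u, u} φ.hom
  let ho : Homotopy (π ≫ (a • 𝟙 K)) 0 :=
    HomotopyCategory.homotopyOfEq _ _ (by rw [hh, Functor.map_zero])
  have hm : HomologicalComplex.homologyMap ((ModRes.eCx φ).map (π ≫ (a • 𝟙 K))) i = 0 := by
    rw [(F.mapHomotopy ho).homologyMap_eq, Functor.map_zero, HomologicalComplex.homologyMap_zero]
  haveI : QuasiIso ((ModRes.eCx φ).map π) := ModRes.quasiIso_extend φ π
    (isKFlat_of_flat P 0 fun j => by
      haveI : Module.Projective R (P.X j) := (IsProjective.iff_projective _).2 (hPp j)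
      infer_instance)
    (isKFlat_of_flat K 0 hK)
  have hs : (ModRes.eCx φ).map (a • 𝟙 K) = φ.hom a • 𝟙 ((ModRes.eCx φ).obj K) := by
    ext1 j
    exact extend_smul φ (K.X j) a
  rw [Functor.map_comp, HomologicalComplex.homologyMap_comp, Preadditive.IsIso.comp_left_eq_zero, hs] at hm
  change ShortComplex.homologyMap (φ.hom a • 𝟙 (((ModRes.eCx φ).obj K).sc i)) = 0 at hm
  rw [ShortComplex.homologyMap_smul, ShortComplex.homologyMap_id] at hm
  exact congrArg (fun g => g.hom h) hm

end Ring

open Groth.L00 Groth.L29.TorExt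

variable {X X' : Scheme.{u}} (f : X' ⟶ X) {T : X.Modules} (S : SheafRes T)

theorem smul_stalk_homology_eq_zero (x : X') (a : X.presheaf.stalk (f x))
    (ha : ∀ t : (Stk.F X (f x)).obj T, a • t = 0) (i : ℤ)
    (h : (Stk.F X' x).obj ((((Scheme.Modules.pullback f).mapHomologicalComplex (ComplexShape.up ℤ)).obj S.R).homology i)) :
    PullStalk.φ f x a • h = 0 := by
  let K := (Stk.S X (f x)).obj S.R
  haveI := S.le
  haveI : K.IsStrictlyLE 0 := (CochainComplex.isStrictlyLE_iff _ _).2 fun j hj =>
    (Stk.F X (f x)).map_isZero (S.R.isZero_of_isStrictlyLE 0 j hj)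
  haveI := S.qis
  let q : K ⟶ (HomologicalComplex.single _ (ComplexShape.up ℤ) 0).obj ((Stk.F X (f x)).obj T) :=
    (Stk.S X (f x)).map S.q ≫
      ((HomologicalComplex.singleMapHomologicalComplex (Stk.F X (f x)) (ComplexShape.up ℤ) 0).app T).hom
  haveI : QuasiIso ((Stk.S X (f x)).map S.q) := inferInstance
  let e : (Stk.F X' x).obj ((((Scheme.Modules.pullback f).mapHomologicalComplex (ComplexShape.up ℤ)).obj S.R).homology i) ≅
      ((Groth.L29.DC.ModRes.eCx (CommRingCat.ofHom (PullStalk.φ f x))).obj K).homology i :=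
    (((((Scheme.Modules.pullback f).mapHomologicalComplex (ComplexShape.up ℤ)).obj S.R).sc i).mapHomologyIso
      (Stk.F X' x)).symm ≪≫ (HomologicalComplex.homologyFunctor _ _ i).mapIso (KFlat.pullCxIso f S.R x)
  have h1 := smul_homology_eq_zero (CommRingCat.ofHom (PullStalk.φ f x)) K (fun j => S.flat j (f x)) q a
    (ModuleCat.hom_ext (LinearMap.ext ha)) i (e.hom.hom h)
  refine e.toLinearEquiv.injective ?_
  rw [map_smul, map_zero]
  exact h1

end Groth.L29.Blow
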