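import Groth.Agent.L04.KSh.RingLevel
import Groth.Agent.L04.Koszul.Cone
import Groth.Prelude.Def_Koszul
import Groth.Prelude.Def_LCI2

/-!
# The cone model and the exterior model of the Koszul complex
-/

set_option autoImplicit false
set_option backward.isDefEq.respectTransparency false
set_option backward.isDefEq.respectTransparency.types false

universe u

open CategoryTheory
open CategoryTheory.Limits hiding im
open Groth.L04.KSh

noncomputable section

namespace Groth.L29.Blow

variable {A : Type u} [CommRing A] {M : Type u} [AddCommGroup M] [Module A M]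


theorem exists_compare {n : ℕ} (b : Module.Basis (Fin n) A M) (φ : M →ₗ[A] A) :
    ∀ (is : List (Fin n)), is.Nodup →
    ∃ ψ : ∀ i : ℤ, (Koszul.koszul A (is.map fun k => φ (b k))).X i →ₗ[A] ExteriorAlgebra A M,
      (∀ i j (_ : i + 1 = j) x, contr φ (ψ i x) = ψ j ((Koszul.koszul A (is.map fun k => φ (b k))).d i j x)) ∧
      (∀ i, Function.Injective (ψ i)) ∧
      (∀ i : ℤ, 0 < i → IsZero ((Koszul.koszul A (is.map fun k => φ (b k))).X i)) ∧
      ∀ (p : ℕ) (i : ℤ), i = -(p : ℤ) →
        LinearMap.range (ψ i) = im (Submodule.span A (b '' {k | k ∈ is})) ^ p := by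
  intro is
  induction is with
  | nil =>
    intro _
    let E := ExteriorAlgebra A M
    let e : ∀ i : ℤ, i = 0 → ((((HomologicalComplex.single (ModuleCat.{u} A) (ComplexShape.up ℤ) 0)).obj (ModuleCat.of A A)).X i ≅ ModuleCat.of A A) := fun i hi =>
      HomologicalComplex.singleObjXIsoOfEq (ComplexShape.up ℤ) 0 _ i hi
    have hz : ∀ i : ℤ, i ≠ 0 → IsZero ((((HomologicalComplex.single (ModuleCat.{u} A) (ComplexShape.up ℤ) 0)).obj (ModuleCat.of A A)).X i) := fun i hi =>
      HomologicalComplex.isZero_single_obj_X (ComplexShape.up ℤ) 0 _ i hi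
    let ψ₀ : ∀ i : ℤ, ((HomologicalComplex.single (ModuleCat.{u} A) (ComplexShape.up ℤ) 0).obj (ModuleCat.of A A)).X i →ₗ[A] E :=
      fun i => if h : i = 0 then (Algebra.linearMap A E).comp (e i h).hom.hom else 0
    have h1 : ∀ i (h : i = 0) x, ψ₀ i x = algebraMap A E ((e i h).hom x) := fun i h x => by
      simp only [ψ₀, dif_pos h]; rfl
    have h2 : ∀ i (h : i ≠ 0) x, ψ₀ i x = 0 := fun i h x => by simp only [ψ₀, dif_neg h]; rfl
    refine ⟨ψ₀, fun i j hij x => ?_, fun i => ?_, fun i hi => hz i (by omega), fun p i hi => ?_⟩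
    · have hd : ((HomologicalComplex.single (ModuleCat.{u} A) (ComplexShape.up ℤ) 0).obj (ModuleCat.of A A)).d i j = 0 :=
        HomologicalComplex.single_obj_d (c := ComplexShape.up ℤ) 0 _ i j
      show contr φ (ψ₀ i x) = ψ₀ j (((HomologicalComplex.single (ModuleCat.{u} A) (ComplexShape.up ℤ) 0).obj
        (ModuleCat.of A A)).d i j x)
      rw [hd]
      refine Eq.trans ?_ (map_zero (ψ₀ j)).symm
      by_cases h : i = 0
      · exact (congrArg (contr φ) (h1 i h x)).trans (CliffordAlgebra.contractLeft_algebraMap _ φ _)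
      · exact (congrArg (contr φ) (h2 i h x)).trans (map_zero _)
    · intro x y hxy
      by_cases h : i = 0
      · exact (e i h).toLinearEquiv.injective
          ((ExteriorAlgebra.algebraMap_inj _ _ _).1 ((h1 i h x).symm.trans (hxy.trans (h1 i h y))))
      · haveI := ModuleCat.subsingleton_of_isZero (hz i h)
        exact Subsingleton.elim (α := ((HomologicalComplex.single (ModuleCat.{u} A) (ComplexShape.up ℤ) 0).obj
          (ModuleCat.of A A)).X i) _ _
    · show LinearMap.range (ψ₀ i) = _
      cases p with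
      | zero =>
        have h : i = 0 := by simp [hi]
        rw [pow_zero, Submodule.one_eq_range]
        refine le_antisymm ?_ ?_
        · rintro _ ⟨x, rfl⟩
          exact ⟨_, (h1 i h x).symm⟩
        · rintro _ ⟨a, rfl⟩
          obtain ⟨x, hx⟩ := (e i h).toLinearEquiv.surjective a
          exact ⟨x, (h1 i h x).trans (congrArg (algebraMap A E) hx)⟩
      | succ p =>
        have h : i ≠ 0 := by omega
        rw [show {k : Fin n | k ∈ ([] : List (Fin n))} = ∅ by simp,
          Set.image_empty, Submodule.span_empty, im, Submodule.map_bot, pow_succ, Submodule.mul_bot, eq_bot_iff]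
        rintro _ ⟨x, rfl⟩
        exact h2 i h x
  | cons k is ih =>
    intro hnd
    obtain ⟨hk, hnd'⟩ := List.nodup_cons.1 hnd
    obtain ⟨ψ, hd, hinj, hz, hr⟩ := ih hnd'
    set S := Submodule.span A (b '' {l | l ∈ is}) with hSdef
    let K := Koszul.koszul A (is.map fun k => φ (b k))
    let g : K ⟶ K := φ (b k) • 𝟙 K
    let ψ' : ∀ i : ℤ, (CochainComplex.mappingCone g).X i →ₗ[A] ExteriorAlgebra A M := fun i =>
      ((ψ i).comp (LinearMap.snd A _ _) + (LinearMap.mulLeft A (ExteriorAlgebra.ι A (b k))).comp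
        ((ψ (i + 1)).comp (LinearMap.fst A _ _))).comp (Groth.L02.PC.coneEquiv g i (i + 1) rfl).toLinearMap
    have hψ' : ∀ i q x, ψ' i (Groth.L04.Koszul.cmk g i (i + 1) rfl q x) =
        ψ i x + ExteriorAlgebra.ι A (b k) * ψ (i + 1) q := fun i q x =>
      congrArg (fun z => ψ i z.2 + ExteriorAlgebra.ι A (b k) * ψ (i + 1) z.1) (Groth.L04.Koszul.coneEquiv_cmk g rfl q x)
    have hS : ∀ m ∈ S, b.coord k m = 0 := by
      refine fun m hm => (Submodule.span_le.2 ?_ : S ≤ LinearMap.ker (b.coord k)) hm
      rintro _ ⟨l, hl, rfl⟩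
      have hne : l ≠ k := fun e => hk (e ▸ hl)
      simp [hne]
    have hε : ∀ (i : ℤ) (x : K.X i), contr (b.coord k) (ψ i x) = 0 := fun i x => by
      by_cases hi : 0 < i
      · haveI := ModuleCat.subsingleton_of_isZero (hz i hi)
        rw [Subsingleton.elim x 0, map_zero, map_zero]
      · obtain ⟨p, hp⟩ : ∃ p : ℕ, i = -(p : ℤ) := ⟨(-i).toNat, by omega⟩
        exact contr_eq_zero_of_vanish (b.coord k) S hS p (hr p i hp ▸ LinearMap.mem_range_self _ x)
    have hT : Submodule.span A (b '' {l | l ∈ k :: is}) = S ⊔ Submodule.span A {b k} := by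
      rw [hSdef, ← Submodule.span_union]
      congr 1
      ext m
      constructor
      · rintro ⟨l, hl, rfl⟩
        rcases List.mem_cons.1 hl with rfl | h
        · exact Or.inr rfl
        · exact Or.inl ⟨l, h, rfl⟩
      · rintro (⟨l, hl, rfl⟩ | rfl)
        · exact ⟨l, List.mem_cons_of_mem _ hl, rfl⟩
        · exact ⟨k, List.mem_cons_self, rfl⟩
    refine ⟨ψ', fun i j hij z => ?_, fun i => ?_, fun i hi => ?_, fun p i hp => ?_⟩
    · subst hij
      change (CochainComplex.mappingCone g).X i at z
      show contr φ (ψ' i z) = ψ' (i + 1) ((CochainComplex.mappingCone g).d i (i + 1) z)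
      obtain ⟨q, x, rfl⟩ := Groth.L04.Koszul.exists_cmk g rfl z
      rw [Groth.L04.Koszul.d_cmk g rfl rfl, hψ', hψ', map_add, contr_ι_mul, hd i (i + 1) rfl,
        hd (i + 1) (i + 1 + 1) rfl, show g.f (i + 1) q = φ (b k) • q from rfl, map_add, map_smul, map_neg,
        mul_neg]
      abel
    · refine (injective_iff_map_eq_zero _).2 fun z hz' => ?_
      obtain ⟨q, x, rfl⟩ := Groth.L04.Koszul.exists_cmk g (rfl : i + 1 = i + 1) z
      replace hz' : ψ i x + ExteriorAlgebra.ι A (b k) * ψ (i + 1) q = 0 := (hψ' i q x).symm.trans hz'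
      have h := congrArg (contr (b.coord k)) hz'
      rw [map_add, map_zero, contr_ι_mul, hε, hε, mul_zero, sub_zero, zero_add,
        show b.coord k (b k) = 1 by simp, one_smul] at h
      have hq : q = 0 := hinj (i + 1) (h.trans (map_zero _).symm)
      rw [hq, map_zero, mul_zero, add_zero] at hz'
      rw [hq, hinj i (hz'.trans (map_zero _).symm)]
      exact Groth.L04.Koszul.cmk_zero g rfl
    · show IsZero ((CochainComplex.mappingCone g).X i)
      haveI := ModuleCat.subsingleton_of_isZero (hz i hi)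
      haveI := ModuleCat.subsingleton_of_isZero (hz (i + 1) (by omega))
      haveI : Subsingleton ((CochainComplex.mappingCone g).X i) :=
        ⟨fun a c => (Groth.L02.PC.coneEquiv g i (i + 1) rfl).injective (Subsingleton.elim (α := _ × _) _ _)⟩
      exact ModuleCat.isZero_of_subsingleton _
    · rw [hT]
      have hle : ∀ q, im S ^ q ≤ im (S ⊔ Submodule.span A {b k}) ^ q := fun q =>
        pow_le_pow_left' (Submodule.map_mono le_sup_left) q
      have hm : b k ∈ S ⊔ Submodule.span A {b k} := Submodule.mem_sup_right (Submodule.mem_span_singleton_self _)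
      refine le_antisymm ?_ fun w hw => ?_
      · rintro _ ⟨z, rfl⟩
        obtain ⟨q, x, rfl⟩ := Groth.L04.Koszul.exists_cmk g (rfl : i + 1 = i + 1) z
        refine (congrArg (· ∈ _) (hψ' i q x)).mpr ?_
        refine add_mem (hle p (hr p i hp ▸ LinearMap.mem_range_self _ x)) ?_
        cases p with
        | zero =>
          haveI := ModuleCat.subsingleton_of_isZero (hz (i + 1) (by omega))
          rw [Subsingleton.elim q 0, map_zero, mul_zero]
          exact zero_mem _
        | succ p =>
          exact ι_mul_mem_pow hm (hle p (hr p (i + 1) (by omega) ▸ LinearMap.mem_range_self _ q))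
      · cases p with
        | zero =>
          have hw' : w ∈ im S ^ 0 := by rwa [pow_zero] at hw ⊢
          rw [← hr 0 i hp] at hw'
          obtain ⟨x, rfl⟩ := hw'
          exact ⟨Groth.L04.Koszul.cmk g i (i + 1) rfl 0 x, (hψ' i 0 x).trans (by rw [map_zero, mul_zero, add_zero])⟩
        | succ p =>
          obtain ⟨u, hu, v, hv, rfl⟩ := exists_split S (b k) p hw
          rw [← hr (p + 1) i hp] at hu
          rw [← hr p (i + 1) (by omega)] at hv
          obtain ⟨x, rfl⟩ := hu
          obtain ⟨q, rfl⟩ := hv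
          exact ⟨_, hψ' i q x⟩

/-- Exactness of the exterior model for a Koszul-regular sequence. -/
theorem exact_of_koszul {n : ℕ} (b : Module.Basis (Fin n) A M) (φ : M →ₗ[A] A)
    (h : LCI.IsKoszulRegularSeq A (List.ofFn fun k => φ (b k))) (p : ℕ)
    {z : ExteriorAlgebra A M} (hz : z ∈ ⋀[A]^(p + 1) M) (hDz : contr φ z = 0) :
    ∃ y ∈ ⋀[A]^(p + 2) M, contr φ y = z := by
  obtain ⟨ψ, hd, hinj, -, hr⟩ := exists_compare b φ (List.finRange n) (List.nodup_finRange n)
  have htop : ∀ q, im (Submodule.span A (b '' {k | k ∈ List.finRange n})) ^ q = ⋀[A]^q M := fun q => by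
    rw [show {k : Fin n | k ∈ List.finRange n} = Set.univ by simp, Set.image_univ, b.span_eq, im,
      Submodule.map_top]
  rw [← htop, ← hr (p + 1) _ rfl] at hz
  obtain ⟨x, rfl⟩ := hz
  rw [List.ofFn_eq_map] at h
  generalize hi : (-((p + 1 : ℕ) : ℤ)) = i at x hDz ⊢
  have hx : (Koszul.koszul A ((List.finRange n).map fun k => φ (b k))).d i (i + 1) x = 0 := by
    refine hinj (i + 1) ?_
    rw [← hd i (i + 1) rfl, map_zero]
    exact hDz
  have hex := ((Koszul.koszul A ((List.finRange n).map fun k => φ (b k))).exactAt_iff' (i - 1) i (i + 1) (by simp) (by simp)).1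
    (((Koszul.koszul A ((List.finRange n).map fun k => φ (b k))).exactAt_iff_isZero_homology i).2 (h i (by omega)))
  obtain ⟨y, hy⟩ : ∃ y : (Koszul.koszul A ((List.finRange n).map fun k => φ (b k))).X (i - 1),
      (Koszul.koszul A ((List.finRange n).map fun k => φ (b k))).d (i - 1) i y = x :=
    (ShortComplex.moduleCat_exact_iff _).1 hex x hx
  refine ⟨ψ (i - 1) y, ?_, ?_⟩
  · rw [← htop, ← hr (p + 2) (i - 1) (by omega)]
    exact LinearMap.mem_range_self _ y
  · rw [hd (i - 1) i (by omega)]
    exact congrArg (ψ i) hy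

end Groth.L29.Blow
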